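import Mathlib
import Cfsg.Agent.Lib.Helper67.LSF.Defs

/-!
# LSF [FIXLET]: a basis permutation fixing a reduced word fixes its letters (S5286 project)
-/

set_option autoImplicit false

namespace Cfsg.Agent.Lib.Helper53.LSF

open FreeGroup

universe u

theorem fixlet_core {X : Type u} (π : Equiv.Perm X) (L : List (X × Bool))
    (hL : FreeGroup.IsReduced L)
    (h : FreeGroup.freeGroupCongr π (FreeGroup.mk L) = FreeGroup.mk L) :
    ∀ ℓ ∈ L, π ℓ.1 = ℓ.1 := by
  classical
  have h1 : FreeGroup.freeGroupCongr π (FreeGroup.mk L)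
      = FreeGroup.mk (L.map fun ℓ => (π ℓ.1, ℓ.2)) := by
    simp [FreeGroup.freeGroupCongr]
  rw [h1] at h
  have hred : FreeGroup.IsReduced (L.map fun ℓ => (π ℓ.1, ℓ.2)) := by
    unfold FreeGroup.IsReduced at hL ⊢
    rw [List.isChain_map]
    refine hL.imp ?_
    intro a b hab h2
    exact hab (π.injective h2)
  have h2 : (L.map fun ℓ => (π ℓ.1, ℓ.2)) = L := by
    have h3 := congrArg FreeGroup.toWord h
    rwa [FreeGroup.toWord_mk, FreeGroup.toWord_mk, hred.reduce_eq, hL.reduce_eq] at h3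
  intro ℓ hℓ
  have h4 : ∀ (M : List (X × Bool)), (M.map fun ℓ => (π ℓ.1, ℓ.2)) = M → ∀ ℓ ∈ M, π ℓ.1 = ℓ.1 := by
    intro M
    induction M with
    | nil => intro _ ℓ hℓ; simp at hℓ
    | cons m M ih =>
      intro hM ℓ hℓ
      simp only [List.map_cons, List.cons.injEq] at hM
      rcases List.mem_cons.mp hℓ with rfl | hℓ'
      · exact congrArg Prod.fst hM.1
      · exact ih hM.2 ℓ hℓ'
  exact h4 L h2 ℓ hℓ

theorem pkgFixLet : Cfsg.Agent.Lib.Helper67.LSF.PkgFixLet.{u} := by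
  intro X π L hL h
  exact fixlet_core π L hL h

end Cfsg.Agent.Lib.Helper53.LSF
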